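import Cfsg.Agent.Lib.Helper35.Simple2
import Cfsg.Agent.Lib.Helper35.PresTitsP

namespace Cfsg.Agent.Lib.Helper35.TitsPOrd.Y0

open Cfsg.Agent.Lib.Helper35

set_option maxRecDepth 100000
noncomputable section
def yw : List Nat := [0, 2, 5]
noncomputable def tA0 : Nat := 0x3a0013000231aa188e750c0842400
noncomputable def tJ0 : Nat := 0x20000000041003b0200080
noncomputable def tA1 : Nat := 0x61539d94e97108002600
noncomputable def tJ1 : Nat := 0xc0040400080
noncomputable def tA2 : Nat := 0x8c004c4880042810c91c2800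
noncomputable def tJ2 : Nat := 0x60002a0200080
noncomputable def tA3 : Nat := 0x3800000466a1900000210d1942a00
noncomputable def tJ3 : Nat := 0x200000830400001000c000
noncomputable def tA4 : Nat := 0x638858eb70d9982c00
noncomputable def tJ4 : Nat := 0x80030200080
noncomputable def tA5 : Nat := 0x238380070001080000320e0002e00
noncomputable def tJ5 : Nat := 0x2060008004000010000000
noncomputable def tA6 : Nat := 0x69789e5e8533234ce911709440000
noncomputable def tJ6 : Nat := 0x403a08c01200c1066804000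
noncomputable def tP : Nat := 0x1d386cd181a3058a1220000
def par : Par := ⟨9, 4, 511, 15, 527, 512⟩
def tabs : Nat → Nat
  | 0 => tA0
  | 1 => tA1
  | 2 => tA2
  | 3 => tA3
  | 4 => tA4
  | 5 => tA5
  | 6 => tA6
  | _ => 0
def pe (u : Nat) : Nat := Nat.land (Nat.shiftRight tP (Nat.mul u 7)) 127
def je0 (v : Nat) : Nat := Nat.land (Nat.shiftRight tJ0 (Nat.mul v 7)) 127
def stp0 (off v : Nat) : Nat := Nat.land (Nat.add (Nat.land (Nat.shiftRight tA0 (Nat.mul v 9)) 511) off) 527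
theorem stp0_eq : ∀ off v, stp0 off v = step par (tabs 0) off v := fun _ _ => rfl
attribute [irreducible] stp0
def je1 (v : Nat) : Nat := Nat.land (Nat.shiftRight tJ1 (Nat.mul v 7)) 127
def stp1 (off v : Nat) : Nat := Nat.land (Nat.add (Nat.land (Nat.shiftRight tA1 (Nat.mul v 9)) 511) off) 527
theorem stp1_eq : ∀ off v, stp1 off v = step par (tabs 1) off v := fun _ _ => rfl
attribute [irreducible] stp1
def je2 (v : Nat) : Nat := Nat.land (Nat.shiftRight tJ2 (Nat.mul v 7)) 127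
def stp2 (off v : Nat) : Nat := Nat.land (Nat.add (Nat.land (Nat.shiftRight tA2 (Nat.mul v 9)) 511) off) 527
theorem stp2_eq : ∀ off v, stp2 off v = step par (tabs 2) off v := fun _ _ => rfl
attribute [irreducible] stp2
def je3 (v : Nat) : Nat := Nat.land (Nat.shiftRight tJ3 (Nat.mul v 7)) 127
def stp3 (off v : Nat) : Nat := Nat.land (Nat.add (Nat.land (Nat.shiftRight tA3 (Nat.mul v 9)) 511) off) 527
theorem stp3_eq : ∀ off v, stp3 off v = step par (tabs 3) off v := fun _ _ => rfl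
attribute [irreducible] stp3
def je4 (v : Nat) : Nat := Nat.land (Nat.shiftRight tJ4 (Nat.mul v 7)) 127
def stp4 (off v : Nat) : Nat := Nat.land (Nat.add (Nat.land (Nat.shiftRight tA4 (Nat.mul v 9)) 511) off) 527
theorem stp4_eq : ∀ off v, stp4 off v = step par (tabs 4) off v := fun _ _ => rfl
attribute [irreducible] stp4
def je5 (v : Nat) : Nat := Nat.land (Nat.shiftRight tJ5 (Nat.mul v 7)) 127
def stp5 (off v : Nat) : Nat := Nat.land (Nat.add (Nat.land (Nat.shiftRight tA5 (Nat.mul v 9)) 511) off) 527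
theorem stp5_eq : ∀ off v, stp5 off v = step par (tabs 5) off v := fun _ _ => rfl
attribute [irreducible] stp5
def je6 (v : Nat) : Nat := Nat.land (Nat.shiftRight tJ6 (Nat.mul v 7)) 127
def stp6 (off v : Nat) : Nat := Nat.land (Nat.add (Nat.land (Nat.shiftRight tA6 (Nat.mul v 9)) 511) off) 527
theorem stp6_eq : ∀ off v, stp6 off v = step par (tabs 6) off v := fun _ _ => rfl
attribute [irreducible] stp6
def je : Nat → Nat → Nat
  | 0 => je0
  | 1 => je1
  | 2 => je2
  | 3 => je3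
  | 4 => je4
  | 5 => je5
  | 6 => je6
  | _ => fun _ => 0
def st : Nat → Nat → Nat → Nat
  | 0 => stp0
  | 1 => stp1
  | 2 => stp2
  | 3 => stp3
  | 4 => stp4
  | 5 => stp5
  | 6 => stp6
  | _ => fun off v => step par 0 off v
theorem hst : ∀ l off v, st l off v = step par (tabs l) off v := by
  intro l off v
  rcases Nat.lt_or_ge l 7 with h | h
  · interval_cases l
    exacts [stp0_eq off v, stp1_eq off v, stp2_eq off v, stp3_eq off v, stp4_eq off v, stp5_eq off v, stp6_eq off v]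
  · obtain ⟨k, rfl⟩ : ∃ k, l = k + 7 := ⟨l - 7, by omega⟩
    rfl
def lf0_0 : Leaf (walkS st) := ⟨[0], [], 0, 0, (fun off v => (stp0 off v)), (fun _ v => v), (fun _ u _ => u), fun _ _ => rfl, fun _ _ => rfl⟩
def lf0_2 : Leaf (walkS st) := ⟨[], [5, 3], 6, 0, (fun _ v => v), (fun off v => (stp3 off (stp5 off v))), (fun v _ _ => v), fun _ _ => rfl, fun _ _ => rfl⟩
def lf0_3 : Leaf (walkS st) := ⟨[6], [0], 0, 0, (fun off v => (stp6 off v)), (fun off v => (stp0 off v)), (fun _ _ p => p), fun _ _ => rfl, fun _ _ => rfl⟩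
def lf0_4 : Leaf (walkS st) := ⟨[], [1, 4, 1, 0, 1, 4, 1], 18, 6, (fun _ v => v), (fun off v => (stp1 off (stp4 off (stp1 off (stp0 off (stp1 off (stp4 off (stp1 off v)))))))), (fun v _ _ => v), fun _ _ => rfl, fun _ _ => rfl⟩
def tree0 : RTree (walkS st) :=
  (.node 1 (.fork lf0_0) (.node 2 .tleaf (.node 3 (.fork lf0_2) (.node 4 (.fork lf0_3) (.fork lf0_4)))))
def lf1_0 : Leaf (walkS st) := ⟨[], [6, 1], 1, 0, (fun _ v => v), (fun off v => (stp1 off (stp6 off v))), (fun v _ _ => v), fun _ _ => rfl, fun _ _ => rfl⟩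
def lf1_2 : Leaf (walkS st) := ⟨[1], [], 1, 0, (fun off v => (stp1 off v)), (fun _ v => v), (fun _ u _ => u), fun _ _ => rfl, fun _ _ => rfl⟩
def lf1_3 : Leaf (walkS st) := ⟨[], [4, 1, 5, 0, 2, 0, 3, 0, 5, 1, 4], 28, 3, (fun _ v => v), (fun off v => (stp4 off (stp1 off (stp5 off (stp0 off (stp3 off (stp0 off (stp2 off (stp0 off (stp5 off (stp1 off (stp4 off v)))))))))))), (fun v _ _ => v), fun _ _ => rfl, fun _ _ => rfl⟩
def lf1_4 : Leaf (walkS st) := ⟨[], [0, 2, 0, 4, 0, 4, 0, 3, 0], 19, 8, (fun _ v => v), (fun off v => (stp0 off (stp3 off (stp0 off (stp4 off (stp0 off (stp4 off (stp0 off (stp2 off (stp0 off v)))))))))), (fun v _ _ => v), fun _ _ => rfl, fun _ _ => rfl⟩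
def tree1 : RTree (walkS st) :=
  (.node 1 (.fork lf1_0) (.node 3 (.node 2 .tleaf (.fork lf1_2)) (.node 4 (.fork lf1_3) (.fork lf1_4))))
def lf2_0 : Leaf (walkS st) := ⟨[3], [], 3, 0, (fun off v => (stp3 off v)), (fun _ v => v), (fun _ u _ => u), fun _ _ => rfl, fun _ _ => rfl⟩
def lf2_2 : Leaf (walkS st) := ⟨[6], [2], 2, 0, (fun off v => (stp6 off v)), (fun off v => (stp2 off v)), (fun _ _ p => p), fun _ _ => rfl, fun _ _ => rfl⟩
def lf2_3 : Leaf (walkS st) := ⟨[], [6, 2], 2, 0, (fun _ v => v), (fun off v => (stp2 off (stp6 off v))), (fun v _ _ => v), fun _ _ => rfl, fun _ _ => rfl⟩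
def tree2 : RTree (walkS st) :=
  (.node 1 (.fork lf2_0) (.node 2 .tleaf (.node 3 (.fork lf2_2) (.fork lf2_3))))
def lf3_1 : Leaf (walkS st) := ⟨[2], [], 2, 0, (fun off v => (stp2 off v)), (fun _ v => v), (fun _ u _ => u), fun _ _ => rfl, fun _ _ => rfl⟩
def lf3_2 : Leaf (walkS st) := ⟨[], [5, 0], 34, 1, (fun _ v => v), (fun off v => (stp0 off (stp5 off v))), (fun v _ _ => v), fun _ _ => rfl, fun _ _ => rfl⟩
def lf3_3 : Leaf (walkS st) := ⟨[], [6, 3], 3, 0, (fun _ v => v), (fun off v => (stp3 off (stp6 off v))), (fun v _ _ => v), fun _ _ => rfl, fun _ _ => rfl⟩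
def tree3 : RTree (walkS st) :=
  (.node 2 (.node 1 .tleaf (.fork lf3_1)) (.node 3 (.fork lf3_2) (.fork lf3_3)))
def lf4_0 : Leaf (walkS st) := ⟨[], [6, 4], 4, 0, (fun _ v => v), (fun off v => (stp4 off (stp6 off v))), (fun v _ _ => v), fun _ _ => rfl, fun _ _ => rfl⟩
def lf4_2 : Leaf (walkS st) := ⟨[4], [], 4, 0, (fun off v => (stp4 off v)), (fun _ v => v), (fun _ u _ => u), fun _ _ => rfl, fun _ _ => rfl⟩
def lf4_3 : Leaf (walkS st) := ⟨[], [0, 1, 3, 4, 0, 1, 4, 3, 0], 25, 0, (fun _ v => v), (fun off v => (stp0 off (stp3 off (stp4 off (stp1 off (stp0 off (stp4 off (stp3 off (stp1 off (stp0 off v)))))))))), (fun v _ _ => v), fun _ _ => rfl, fun _ _ => rfl⟩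
def tree4 : RTree (walkS st) :=
  (.node 1 (.fork lf4_0) (.node 2 .tleaf (.node 3 (.fork lf4_2) (.fork lf4_3))))
def lf5_1 : Leaf (walkS st) := ⟨[], [3, 0], 6, 2, (fun _ v => v), (fun off v => (stp0 off (stp3 off v))), (fun v _ _ => v), fun _ _ => rfl, fun _ _ => rfl⟩
def lf5_2 : Leaf (walkS st) := ⟨[5], [], 5, 0, (fun off v => (stp5 off v)), (fun _ v => v), (fun _ u _ => u), fun _ _ => rfl, fun _ _ => rfl⟩
def lf5_3 : Leaf (walkS st) := ⟨[], [6, 5], 5, 0, (fun _ v => v), (fun off v => (stp5 off (stp6 off v))), (fun v _ _ => v), fun _ _ => rfl, fun _ _ => rfl⟩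
def tree5 : RTree (walkS st) :=
  (.node 2 (.node 1 .tleaf (.fork lf5_1)) (.node 3 (.fork lf5_2) (.fork lf5_3)))
def lf6_0 : Leaf (walkS st) := ⟨[2], [6, 2], 2, 0, (fun off v => (stp2 off v)), (fun off v => (stp2 off (stp6 off v))), (fun _ _ p => p), fun _ _ => rfl, fun _ _ => rfl⟩
def lf6_1 : Leaf (walkS st) := ⟨[], [2, 5, 2, 5, 2, 5, 2, 5, 2, 5, 2, 5, 2, 5, 2, 5, 2, 5, 2, 5, 2, 5, 2, 5, 2, 5], 45, 0, (fun _ v => v), (fun off v => (stp5 off (stp2 off (stp5 off (stp2 off (stp5 off (stp2 off (stp5 off (stp2 off (stp5 off (stp2 off (stp5 off (stp2 off (stp5 off (stp2 off (stp5 off (stp2 off (stp5 off (stp2 off (stp5 off (stp2 off (stp5 off (stp2 off (stp5 off (stp2 off (stp5 off (stp2 off v))))))))))))))))))))))))))), (fun v _ _ => v), fun _ _ => rfl, fun _ _ => rfl⟩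
def lf6_2 : Leaf (walkS st) := ⟨[], [0, 3, 0, 5, 0, 2, 0, 3, 0, 5, 0, 2, 6], 26, 4, (fun _ v => v), (fun off v => (stp6 off (stp2 off (stp0 off (stp5 off (stp0 off (stp3 off (stp0 off (stp2 off (stp0 off (stp5 off (stp0 off (stp3 off (stp0 off v)))))))))))))), (fun v _ _ => v), fun _ _ => rfl, fun _ _ => rfl⟩
def lf6_3 : Leaf (walkS st) := ⟨[], [0, 4, 0, 2, 4, 1, 0, 4, 2, 1], 53, 1, (fun _ v => v), (fun off v => (stp1 off (stp2 off (stp4 off (stp0 off (stp1 off (stp4 off (stp2 off (stp0 off (stp4 off (stp0 off v))))))))))), (fun v _ _ => v), fun _ _ => rfl, fun _ _ => rfl⟩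
def lf6_4 : Leaf (walkS st) := ⟨[1, 6], [6, 1], 1, 0, (fun off v => (stp6 off (stp1 off v))), (fun off v => (stp1 off (stp6 off v))), (fun _ _ p => p), fun _ _ => rfl, fun _ _ => rfl⟩
def lf6_5 : Leaf (walkS st) := ⟨[4], [6, 4, 6, 6], 4, 0, (fun off v => (stp4 off v)), (fun off v => (stp6 off (stp6 off (stp4 off (stp6 off v))))), (fun _ _ p => p), fun _ _ => rfl, fun _ _ => rfl⟩
def lf6_6 : Leaf (walkS st) := ⟨[], [4, 5, 1, 4, 5, 1, 4, 5, 1, 6], 57, 7, (fun _ v => v), (fun off v => (stp6 off (stp1 off (stp5 off (stp4 off (stp1 off (stp5 off (stp4 off (stp1 off (stp5 off (stp4 off v))))))))))), (fun v _ _ => v), fun _ _ => rfl, fun _ _ => rfl⟩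
def tree6 : RTree (walkS st) :=
  (.node 2 (.node 1 (.fork lf6_0) (.fork lf6_1)) (.node 4 (.node 3 (.fork lf6_2) (.fork lf6_3)) (.node 5 (.fork lf6_4) (.node 6 (.fork lf6_5) (.fork lf6_6)))))
def trees : Nat → RTree (walkS st)
  | 0 => tree0
  | 1 => tree1
  | 2 => tree2
  | 3 => tree3
  | 4 => tree4
  | 5 => tree5
  | 6 => tree6
  | _ => .tleaf
noncomputable def fs0 (v : Nat) : Bool := chkSlot par tA0 je0 pe 3 7 8 (deadF par tA6) (fun _ => 12) tree0 0 v
noncomputable def fs1 (v : Nat) : Bool := chkSlot par tA1 je1 pe 3 7 8 (deadF par tA6) (fun _ => 12) tree1 1 v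
noncomputable def fs2 (v : Nat) : Bool := chkSlot par tA2 je2 pe 3 7 8 (deadF par tA6) (fun _ => 12) tree2 2 v
noncomputable def fs3 (v : Nat) : Bool := chkSlot par tA3 je3 pe 3 7 8 (deadF par tA6) (fun _ => 12) tree3 3 v
noncomputable def fs4 (v : Nat) : Bool := chkSlot par tA4 je4 pe 3 7 8 (deadF par tA6) (fun _ => 12) tree4 4 v
noncomputable def fs5 (v : Nat) : Bool := chkSlot par tA5 je5 pe 3 7 8 (deadF par tA6) (fun _ => 12) tree5 5 v
noncomputable def fs6 (v : Nat) : Bool := chkSlot par tA6 je6 pe 3 7 8 (fun _ => true) (fun v => Nat.pred v) tree6 6 v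
def gl (k : Nat) : Bool := liveF par tA6 (Nat.succ k)

end

end Cfsg.Agent.Lib.Helper35.TitsPOrd.Y0
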